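import Cfsg.Agent.Lib.CosetTable.Sound
import Cfsg.Agent.Lib.CosetTable.Suz1782.Data

/-! Generated certificate data for the coset table `Suz1782`. -/

namespace Cfsg.Agent.Lib.CosetTable.Suz1782

open Cfsg.Agent.Lib.CosetTable

set_option Elab.async false

theorem fix_ok_run1 : rangeAll (tab.fixOK cert.rels) 128 0 = true := by decide +kernel

theorem fix_ok_run2 : rangeAll (tab.fixOK cert.rels) 128 128 = true := by decide +kernel

theorem fix_ok_run3 : rangeAll (tab.fixOK cert.rels) 128 256 = true := by decide +kernel

theorem fix_ok_run4 : rangeAll (tab.fixOK cert.rels) 128 384 = true := by decide +kernel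

theorem fix_ok_run5 : rangeAll (tab.fixOK cert.rels) 128 512 = true := by decide +kernel

theorem fix_ok_run6 : rangeAll (tab.fixOK cert.rels) 128 640 = true := by decide +kernel

theorem fix_ok_run7 : rangeAll (tab.fixOK cert.rels) 128 768 = true := by decide +kernel

theorem fix_ok_run8 : rangeAll (tab.fixOK cert.rels) 128 896 = true := by decide +kernel

theorem fix_ok_run9 : rangeAll (tab.fixOK cert.rels) 128 1024 = true := by decide +kernel

theorem fix_ok_run10 : rangeAll (tab.fixOK cert.rels) 128 1152 = true := by decide +kernel

theorem fix_ok_run11 : rangeAll (tab.fixOK cert.rels) 128 1280 = true := by decide +kernel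

theorem fix_ok_run12 : rangeAll (tab.fixOK cert.rels) 128 1408 = true := by decide +kernel

theorem fix_ok_run13 : rangeAll (tab.fixOK cert.rels) 128 1536 = true := by decide +kernel

theorem fix_ok_run14 : rangeAll (tab.fixOK cert.rels) 118 1664 = true := by decide +kernel

end Cfsg.Agent.Lib.CosetTable.Suz1782
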