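import Cfsg.Agent.Lib.CosetTable.Suz1782.RowsOK
import Cfsg.Agent.Lib.CosetTable.Suz1782.FixOK1

/-! Generated certificate data for the coset table `Suz1782`. -/

namespace Cfsg.Agent.Lib.CosetTable.Suz1782

open Cfsg.Agent.Lib.CosetTable

theorem fix_ok : Below (tab.fixOK cert.rels) 1782 :=
  ((((((((((((((Below.zero _).step (b := 128) fix_ok_run1 rfl).step (b := 256) fix_ok_run2 rfl).step (b := 384) fix_ok_run3 rfl).step (b := 512) fix_ok_run4 rfl).step (b := 640) fix_ok_run5 rfl).step (b := 768) fix_ok_run6 rfl).step (b := 896) fix_ok_run7 rfl).step (b := 1024) fix_ok_run8 rfl).step (b := 1152) fix_ok_run9 rfl).step (b := 1280) fix_ok_run10 rfl).step (b := 1408) fix_ok_run11 rfl).step (b := 1536) fix_ok_run12 rfl).step (b := 1664) fix_ok_run13 rfl).step (b := 1782) fix_ok_run14 rfl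

end Cfsg.Agent.Lib.CosetTable.Suz1782
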