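import Cfsg.Agent.Lib.CosetTable.Sound
import Cfsg.Agent.Lib.CosetTable.Suz1782.Data

/-! Generated certificate data for the coset table `Suz1782`. -/

namespace Cfsg.Agent.Lib.CosetTable.Suz1782

open Cfsg.Agent.Lib.CosetTable

set_option Elab.async false

theorem rows_ok_run1 : rangeAll (tab.rowOK cert 38050) 512 0 = true := by decide +kernel

theorem rows_ok_run2 : rangeAll (tab.rowOK cert 38050) 512 512 = true := by decide +kernel

theorem rows_ok_run3 : rangeAll (tab.rowOK cert 38050) 512 1024 = true := by decide +kernel

theorem rows_ok_run4 : rangeAll (tab.rowOK cert 38050) 246 1536 = true := by decide +kernel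

theorem rows_ok : Below (tab.rowOK cert 38050) 1782 :=
  ((((Below.zero _).step (b := 512) rows_ok_run1 rfl).step (b := 1024) rows_ok_run2 rfl).step (b := 1536) rows_ok_run3 rfl).step (b := 1782) rows_ok_run4 rfl

theorem orb1_ok_run1 : rangeAll (orb1.posOK tab cert.subs) 416 0 = true := by decide +kernel

theorem orb1_ok : Below (orb1.posOK tab cert.subs) 416 :=
  (Below.zero _).step (b := 416) orb1_ok_run1 rfl

theorem orb2_ok_run1 : rangeAll (orb2.posOK tab cert.subs) 512 0 = true := by decide +kernel

theorem orb2_ok_run2 : rangeAll (orb2.posOK tab cert.subs) 512 512 = true := by decide +kernel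

theorem orb2_ok_run3 : rangeAll (orb2.posOK tab cert.subs) 341 1024 = true := by decide +kernel

theorem orb2_ok : Below (orb2.posOK tab cert.subs) 1365 :=
  (((Below.zero _).step (b := 512) orb2_ok_run1 rfl).step (b := 1024) orb2_ok_run2 rfl).step (b := 1365) orb2_ok_run3 rfl

end Cfsg.Agent.Lib.CosetTable.Suz1782
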